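import Cfsg.Agent.SP.NJ3.Three
import Cfsg.Agent.H388.RG.JThree
import Cfsg.Agent.H296.JT.Five

/-! # S5755, the row `J₃`: counting, and the socle of order 4080 (helper93) -/

set_option autoImplicit false

namespace Cfsg.Agent.SP.NJ3

open Subgroup Cfsg Cfsg.Spor
open Cfsg.Agent.H296.JT (fin_j3 card_j3 cn5 ncard_biUnion_le')

variable {K : Type} [Group K]

theorem cent_le (h : IsoJ3 K) {r : ℕ} (hr : r.Prime) (h2 : r ≠ 2) {x : K} (hx : orderOf x = r) :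
    Nat.card (centralizer ({x} : Set K)) ≤ 1080 := by
  have := fin_j3 h
  have hd : r ∣ 50232960 := by rw [← hx, ← card_j3 h]; exact orderOf_dvd_natCard x
  rcases H898.J3Cent.prime_dvd_card hr hd with rfl | rfl | rfl | rfl | rfl
  · exact absurd rfl h2
  · rcases H305.OddJ3.cent_three h hx with e | e
    · exact e.le
    · exact (Nat.le_of_dvd (by norm_num) e).trans (by norm_num)
  · rw [(cn5 h hx).1]; norm_num
  · rw [(H898.J3Cent.seventeen h hx).1]; norm_num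
  · rw [H898.J3Cent.card_nineteen h hx]; norm_num

theorem inv_ge (h : IsoJ3 K) {A B : Subgroup K} (hp : IsPair A B) (h2 : 2 ∣ B.relIndex A) :
    162 ≤ {x | x ∈ A ∧ orderOf x = 2}.ncard := by
  have := fin_j3 h
  have h1 := hp.count_one Nat.prime_two h2 _ 1920 le_rfl (fun x _ hx => (cent_two h hx).le)
  rw [card_j3 h] at h1
  by_contra hc
  have h3 : {x | x ∈ A ∧ orderOf x = 2}.ncard ^ 2 ≤ 161 ^ 2 := Nat.pow_le_pow_left (by omega) 2
  omega

theorem odd_ge (h : IsoJ3 K) {A B : Subgroup K} (hp : IsPair A B) {r : ℕ} (hr : r.Prime) (h2 : r ≠ 2)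
    (hd : r ∣ B.relIndex A) : 305 ≤ Nat.card A := by
  have := fin_j3 h
  have h1 := hp.count_one hr hd (Nat.card A) 1080 (ncard_le_card_subgroup fun x hx => hx.1)
    (fun x _ hx => cent_le h hr h2 hx)
  rw [card_j3 h] at h1
  have h4 : 2 * 50232960 ≤ (r - 1) * 50232960 := Nat.mul_le_mul_right _ (by have := hr.two_le; omega)
  by_contra hc
  have h3 : Nat.card A ^ 2 ≤ 304 ^ 2 := Nat.pow_le_pow_left (by omega) 2
  omega

theorem card_ge (h : IsoJ3 K) {A B : Subgroup K} (hp : IsPair A B) : 162 ≤ Nat.card A := by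
  have := fin_j3 h
  obtain ⟨r, hr, hd⟩ := hp.exists_prime
  by_cases h2 : r = 2
  · subst h2
    exact (inv_ge h hp hd).trans (ncard_le_card_subgroup fun x hx => hx.1)
  · have := odd_ge h hp hr h2 hd
    omega

theorem no30 (h : IsoJ3 K) {t a b : K} (ht : orderOf t = 2) (ha : orderOf a = 3) (hb : orderOf b = 5)
    (hab : a * b = b * a) (hta : t * a = a * t) (htb : t * b = b * t) : False :=
  H388.RG.JThree.no30 ((H898.J3Cent.base h).2.2 t ht) ha hb hab hta htb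

theorem memL [Finite K] {x y l : K} (hxy : y * x = x * y) (hl : l ∈ zpowers (x * y)) : ∃ a : ℕ, l = x ^ a * y ^ a := by
  rw [← mem_powers_iff_mem_zpowers] at hl
  obtain ⟨a, rfl⟩ := hl
  exact ⟨a, (Commute.mul_pow hxy.symm a)⟩

theorem cardL {x y : K} (hx : orderOf x = 5) (hy : orderOf y = 3) (hxy : y * x = x * y) :
    Nat.card (zpowers (x * y)) = 15 := by
  rw [Nat.card_zpowers, Commute.orderOf_mul_eq_mul_orderOf_of_coprime hxy.symm (by rw [hx, hy]; norm_num), hx, hy]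

theorem pow_of_two {x : K} {a n : ℕ} (hn : Odd n) (h1 : x ^ n = 1) (h2 : x ^ a * x ^ a = 1) : x ^ a = 1 := by
  obtain ⟨k, rfl⟩ := hn
  have h3 : (x ^ a) ^ (2 * k + 1) = 1 := by rw [← pow_mul, mul_comm, pow_mul, h1, one_pow]
  rwa [pow_succ, pow_mul, pow_two, h2, one_pow, one_mul] at h3

theorem c30 (h : IsoJ3 K) {x y y' : K} (hx : orderOf x = 5) (hy : orderOf y = 3) (hxy : y * x = x * y)
    (h3 : y' ^ 3 = 1) (hxy' : y' * x = x * y') : y' ∈ zpowers y := by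
  have := fin_j3 h
  have hL : zpowers (x * y) ≤ centralizer ({x} : Set K) := by
    rw [zpowers_le, mem_centralizer_singleton_iff, mul_assoc, hxy]
  have h1 := relIndex_mul_card hL
  rw [cardL hx hy hxy, (cn5 h hx).1] at h1
  have hy' : y' ∈ centralizer ({x} : Set K) := mem_centralizer_singleton_iff.2 hxy'
  have h2 : y' * y' ∈ zpowers (x * y) := (mul_mem_of_two (by omega) hy' hy').2 Iff.rfl
  have h4 : y' ∈ zpowers (x * y) := by
    have e : y' = (y' * y') * (y' * y') := by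
      calc y' = y' * y' ^ 3 := by rw [h3, mul_one]
        _ = _ := by simp only [pow_succ, pow_zero, one_mul, mul_assoc]
    rw [e]; exact mul_mem h2 h2
  obtain ⟨a, rfl⟩ := memL hxy h4
  have hc : Commute (x ^ a) (y ^ a) := (Commute.pow_pow hxy.symm a a)
  have y3 : (y ^ a) ^ 3 = 1 := by rw [← pow_mul, mul_comm, pow_mul, ← hy, pow_orderOf_eq_one, one_pow]
  rw [hc.mul_pow, y3, mul_one, ← pow_mul] at h3
  have h5 := orderOf_dvd_of_pow_eq_one h3
  rw [hx] at h5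
  have h6 : x ^ a = 1 := by
    rw [← orderOf_dvd_iff_pow_eq_one, hx]
    exact (Nat.Coprime.dvd_mul_right (by norm_num)).1 h5
  rw [h6, one_mul]
  exact pow_mem (mem_zpowers y) a

theorem inverts [Finite K] {x w : K} {p : ℕ} (hp : p.Prime) (hx : orderOf x = p)
    (hw : w ∈ normalizer ((zpowers x : Subgroup K) : Set K)) (hww : w * w = 1) (hn : w * x ≠ x * w) :
    w * x * w⁻¹ = x⁻¹ := by
  have := Fact.mk hp
  have h1 := conj_mem_of_norm hw
  have hi : w⁻¹ = w := inv_eq_of_mul_eq_one_right hww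
  by_contra hc
  have h2 : (⟨x * (w * x * w⁻¹), mul_mem (mem_zpowers x) h1⟩ : zpowers x) ≠ 1 := fun e =>
    hc (eq_inv_of_mul_eq_one_right (congrArg Subtype.val e))
  obtain ⟨k, hk⟩ := mem_zpowers_of_prime_card (by rw [Nat.card_zpowers, hx]) h2 (g' := ⟨x, mem_zpowers x⟩)
  have hk' : (x * (w * x * w⁻¹)) ^ k = x := congrArg Subtype.val hk
  have h3 : x * (w * x * w⁻¹) = (w * x * w⁻¹) * x := by
    obtain ⟨j, hj⟩ := h1
    rw [← hj]; exact ((Commute.refl x).zpow_right j).eq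
  have h4 : Commute w (x * (w * x * w⁻¹)) := by
    show w * (x * (w * x * w⁻¹)) = x * (w * x * w⁻¹) * w
    conv_rhs => rw [h3]
    calc w * (x * (w * x * w⁻¹)) = w * x * w⁻¹ * (w * w) * x * w⁻¹ := by group
      _ = _ := by rw [hww, mul_one, hi]
  apply hn
  rw [← hk']
  exact (h4.zpow_right k).eq

theorem cent_inf_le (h : IsoJ3 K) {y w : K} (hK : Nat.card (centralizer ({y} : Set K)) = 1080)
    (hw : orderOf w = 2) :
    Nat.card (centralizer ({y} : Set K) ⊓ centralizer ({w} : Set K) : Subgroup K) ∣ 120 := by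
  have := fin_j3 h
  have h1 := card_dvd_of_le (inf_le_left : centralizer ({y} : Set K) ⊓ centralizer ({w} : Set K) ≤ _)
  have h2 := card_dvd_of_le (inf_le_right : centralizer ({y} : Set K) ⊓ centralizer ({w} : Set K) ≤ _)
  rw [hK] at h1
  rw [cent_two h hw] at h2
  exact Nat.dvd_gcd h1 h2

theorem cent_inf_le' (h : IsoJ3 K) {y w : K} (hy : orderOf y = 3)
    (hK : Nat.card (centralizer ({y} : Set K)) = 1080) (hw : orderOf w = 2) (hwy : w * y = y * w) :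
    Nat.card (centralizer ({y} : Set K) ⊓ centralizer ({w} : Set K) : Subgroup K) ≤ 24 := by
  have := fin_j3 h
  have f5 : Fact (Nat.Prime 5) := ⟨Nat.prime_five⟩
  have h1 := cent_inf_le h hK hw
  have h2 : ¬ 5 ∣ Nat.card (centralizer ({y} : Set K) ⊓ centralizer ({w} : Set K) : Subgroup K) := by
    intro hd
    obtain ⟨b, hb⟩ := exists_prime_orderOf_dvd_card' 5 hd
    exact no30 h hw hy (by rw [Subgroup.orderOf_coe, hb]) (mem_centralizer_singleton_iff.1 b.2.1).symm hwy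
      (mem_centralizer_singleton_iff.1 b.2.2).symm
  exact Nat.le_of_dvd (by norm_num) (Nat.Coprime.dvd_of_dvd_mul_left
    ((Nat.Prime.coprime_iff_not_dvd Nat.prime_five).2 h2).symm (h1 : _ ∣ 5 * 24))

theorem exists_ord [Finite K] {S : Subgroup K} {p : ℕ} (hp : p.Prime) (hd : p ∣ Nat.card S) :
    ∃ x ∈ S, orderOf x = p := by
  have := Fact.mk hp
  obtain ⟨x, hx⟩ := exists_prime_orderOf_dvd_card' p hd
  exact ⟨x, x.2, by rw [Subgroup.orderOf_coe, hx]⟩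

theorem ar4080 : ∀ m ∈ Nat.divisors 60, 4080 / m % 5 = 1 → m = 5 ∨ m = 30 := by decide

theorem not_five [Finite K] {S : Subgroup K} {x j : K} (hxS : x ∈ S) (hx : orderOf x = 5) (hj : j ∈ S)
    (hjn : j ∈ normalizer ((zpowers x : Subgroup K) : Set K)) (hjx : j * x ≠ x * j) :
    Nat.card (S ⊓ normalizer ((zpowers x : Subgroup K) : Set K) : Subgroup K) ≠ 5 := by
  intro e
  have h1 : zpowers x ≤ S ⊓ normalizer ((zpowers x : Subgroup K) : Set K) :=
    zpowers_le.2 ⟨hxS, comm_mem_norm rfl⟩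
  have h2 := Subgroup.eq_of_le_of_card_ge h1 (by rw [e, Nat.card_zpowers, hx])
  have h3 : j ∈ zpowers x := by rw [h2]; exact ⟨hj, hjn⟩
  obtain ⟨k, rfl⟩ := h3
  exact hjx ((Commute.refl x).zpow_left k).eq

theorem case4080 (h : IsoJ3 K) {A B S : Subgroup K} (hp : IsPair A B) (hSB : S ≤ B)
    (hn : ∀ a ∈ A, ∀ s ∈ S, a * s * a⁻¹ ∈ S) (hs : IsSimpleGroup S) (hna : ¬ ∀ a b : S, a * b = b * a)
    (hc : Nat.card S = 4080) : False := by
  have := fin_j3 h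
  have hSA : S ≤ A := hSB.trans hp.le
  obtain ⟨x, hxS, hx⟩ := exists_ord (S := S) Nat.prime_five (by rw [hc]; norm_num)
  have h25 : ¬ 5 ^ 2 ∣ Nat.card S := by rw [hc]; norm_num
  have h9 : ¬ 3 ^ 2 ∣ Nat.card S := by rw [hc]; norm_num
  obtain ⟨cC, cH⟩ := cn5 h hx
  obtain ⟨n, hn1, hn2⟩ := sylow_count Nat.prime_five hxS hx h25
  have hi := idx_data hSA hn Nat.prime_five hxS hx h25
  obtain ⟨j5, hj5S, hj5n, hj5x⟩ := burnside hs hna Nat.prime_five hxS hx h25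
  have hm5 := not_five hxS hx hj5S hj5n hj5x
  set H := normalizer ((zpowers x : Subgroup K) : Set K) with hH
  set C := centralizer ({x} : Set K) with hC
  have memC : ∀ g, g ∈ C ↔ g * x = x * g := fun g => mem_centralizer_singleton_iff
  have hCH : C ≤ H := fun g hg => comm_mem_norm ((memC g).1 hg)
  have hmd : Nat.card (S ⊓ H : Subgroup K) ∣ 60 := by rw [← cH]; exact card_dvd_of_le inf_le_right
  have hm : Nat.card (S ⊓ H : Subgroup K) = 30 := by
    refine (ar4080 _ (Nat.mem_divisors.2 ⟨hmd, by norm_num⟩) ?_).resolve_left hm5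
    rw [← hc, hn2, Nat.mul_div_cancel_left _ Nat.card_pos, hn1]
  have hAd : Nat.card (A ⊓ H : Subgroup K) ∣ 60 := by rw [← cH]; exact card_dvd_of_le inf_le_right
  have hBA := hp.relIndex_ne_one
  have hBd : B.relIndex A ∣ S.relIndex A := relIndex_dvd_of_le_left A hSB
  rw [hi, hm] at hAd
  have hi2 : S.relIndex A = 2 := by
    have h1 : S.relIndex A ∣ 2 := Nat.dvd_of_mul_dvd_mul_right (by norm_num) (hAd : _ ∣ 2 * 30)
    rcases (Nat.dvd_prime Nat.prime_two).1 h1 with e | e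
    · rw [e] at hBd; exact absurd (Nat.dvd_one.1 hBd) hBA
    · exact e
  have hB2 : 2 ∣ B.relIndex A := by
    rw [hi2] at hBd
    rcases (Nat.dvd_prime Nat.prime_two).1 hBd with e | e
    · exact absurd e hBA
    · rw [e]
  have hHA : H ≤ A := by
    have := Subgroup.eq_of_le_of_card_ge (inf_le_right : A ⊓ H ≤ H) (by rw [hi, hi2, hm, cH])
    exact inf_eq_right.1 this
  have hC2 : C.relIndex H = 2 := by
    have := relIndex_mul_card hCH
    rw [cC, cH] at this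
    omega
  -- the element `y`
  obtain ⟨y, ⟨hyS, hyH⟩, hy⟩ := exists_ord (S := S ⊓ H) Nat.prime_three (by rw [hm]; norm_num)
  have y3 : y ^ 3 = 1 := by rw [← hy, pow_orderOf_eq_one]
  have x5 : x ^ 5 = 1 := by rw [← hx, pow_orderOf_eq_one]
  have hyx : y * x = x * y := by
    have h2 : y * y ∈ C := (mul_mem_of_two hC2 hyH hyH).2 Iff.rfl
    have e : y = (y * y) * (y * y) := by
      calc y = y * y ^ 3 := by rw [y3, mul_one]
        _ = _ := by simp only [pow_succ, pow_zero, one_mul, mul_assoc]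
    rw [← memC, e]; exact mul_mem h2 h2
  have hL : zpowers (x * y) = S ⊓ C := by
    have h1 : zpowers (x * y) ≤ S ⊓ C :=
      zpowers_le.2 ⟨S.mul_mem hxS hyS, C.mul_mem ((memC x).2 rfl) ((memC y).2 hyx)⟩
    refine Subgroup.eq_of_le_of_card_ge h1 ?_
    have h2 := card_dvd_of_le (inf_le_inf_left S hCH)
    have h3 : Nat.card (S ⊓ C : Subgroup K) ≠ 30 := fun e => by
      have h4 := Subgroup.eq_of_le_of_card_ge (inf_le_inf_left S hCH) (by rw [e, hm])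
      have h5 : j5 ∈ S ⊓ C := by rw [h4]; exact ⟨hj5S, hj5n⟩
      exact hj5x ((memC _).1 h5.2)
    rw [hm] at h2
    rw [cardL hx hy hyx]
    obtain ⟨d, hd⟩ := h2
    have : d ≠ 1 := fun e => h3 (by rw [e, mul_one] at hd; exact hd.symm)
    have : d ≠ 0 := fun e => by rw [e] at hd; norm_num at hd
    have : 2 ≤ d := by omega
    nlinarith
  have hLm : ∀ l, l ∈ S → l ∈ C → ∃ a : ℕ, l = x ^ a * y ^ a := fun l h1 h2 =>
    memL hyx (by rw [hL]; exact ⟨h1, h2⟩)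
  have hK : Nat.card (centralizer ({y} : Set K)) = 1080 := by
    refine (H305.OddJ3.cent_three h hy).resolve_right fun e => ?_
    have h1 := (ord_dvd hyx.symm).trans e
    rw [hx] at h1
    norm_num at h1
  set Ky := centralizer ({y} : Set K) with hKy
  have memK : ∀ g, g ∈ Ky ↔ g * y = y * g := fun g => mem_centralizer_singleton_iff
  set Ny := normalizer ((zpowers y : Subgroup K) : Set K) with hNy
  have cl1 : ∀ a ∈ A, a ∈ Ny → a ∈ H := by
    have hxK : x ∈ S ⊓ Ky := ⟨hxS, (memK x).2 hyx.symm⟩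
    have d1 : Nat.card (S ⊓ Ky : Subgroup K) ∣ 120 := by
      have h1 := card_dvd_of_le (inf_le_left : S ⊓ Ky ≤ _)
      have h2 := card_dvd_of_le (inf_le_right : S ⊓ Ky ≤ _)
      rw [hc] at h1
      rw [hK] at h2
      exact Nat.dvd_gcd h1 h2
    obtain ⟨n', e1, e2⟩ := sylow_count Nat.prime_five hxK hx (fun e => by have := e.trans d1; norm_num at this)
    have d2 : 15 ∣ Nat.card (S ⊓ Ky ⊓ H : Subgroup K) := by
      rw [← cardL hx hy hyx]
      refine card_dvd_of_le (zpowers_le.2 ⟨⟨S.mul_mem hxS hyS, Ky.mul_mem hxK.2 ((memK y).2 rfl)⟩,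
        H.mul_mem (comm_mem_norm rfl) hyH⟩)
    have d3 : n' = 1 := by
      obtain ⟨d, hd⟩ := d2
      rw [e2, hd, mul_assoc] at d1
      have d4 : n' ∣ 8 := (Dvd.intro_left d rfl).trans (Nat.dvd_of_mul_dvd_mul_left (by norm_num) (d1 : _ ∣ 15 * 8))
      have d5 := Nat.le_of_dvd (by norm_num) d4
      interval_cases n' <;> omega
    have d6 : S ⊓ Ky ≤ H :=
      inf_eq_left.1 (Subgroup.eq_of_le_of_card_ge inf_le_left (by rw [e2, d3, mul_one]))
    intro a ha haN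
    have h1 : a * x * a⁻¹ ∈ H := by
      refine d6 ⟨hn a ha x hxS, (memK _).2 ?_⟩
      obtain ⟨k, hk⟩ := conj_mem_of_norm (inv_mem haN)
      have hk' : y ^ k = a⁻¹ * y * a := by simpa using hk
      have h2 : x * (a⁻¹ * y * a) = (a⁻¹ * y * a) * x := by
        rw [← hk']; exact ((show Commute x y from hyx.symm).zpow_right k).eq
      calc a * x * a⁻¹ * y = a * (x * (a⁻¹ * y * a)) * a⁻¹ := by group
        _ = _ := by rw [h2]; group
    obtain ⟨s, hs1, hs2⟩ := frattini (S := H) Nat.prime_five (comm_mem_norm rfl) hx (by rw [cH]; norm_num) h1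
    simpa using H.mul_mem hs1 hs2
  have cl2 : H ≤ Ny := by
    intro g hg
    refine mem_norm_zpowers (c30 h hx hy hyx (by rw [conj_pow, y3]; group) ?_)
    obtain ⟨k, hk⟩ := conj_mem_of_norm (inv_mem hg)
    have hk' : x ^ k = g⁻¹ * x * g := by simpa using hk
    have h2 : y * (g⁻¹ * x * g) = (g⁻¹ * x * g) * y := by
      rw [← hk']; exact ((show Commute y x from hyx).zpow_right k).eq
    calc g * y * g⁻¹ * x = g * (y * (g⁻¹ * x * g)) * g⁻¹ := by group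
      _ = _ := by rw [h2]; group
  obtain ⟨j, hjS, hjn, hjy⟩ := burnside hs hna Nat.prime_three hyS hy h9
  have hjH : j ∈ H := cl1 j (hSA hjS) hjn
  have hjinv : j * y * j⁻¹ = y⁻¹ :=
    (conj_three_cases hy hjn).resolve_left fun e => hjy (mul_inv_eq_iff_eq_mul.1 e)
  have hjC : j ∉ C := fun e => by
    obtain ⟨a, rfl⟩ := hLm j hjS e
    exact hjy (((show Commute x y from hyx.symm).pow_left a).mul_left ((Commute.refl y).pow_left a)).eq
  have odd15 : ∀ g ∈ H, g ∉ S → g ^ 15 ∉ S ∧ g ^ 15 * g ^ 15 = 1 := by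
    intro g hg hgS
    have h1 : g * g ∈ S := (mul_mem_of_two hi2 (hHA hg) (hHA hg)).2 Iff.rfl
    have h2 : g * g ∈ zpowers (x * y) := by rw [hL]; exact ⟨h1, (mul_mem_of_two hC2 hg hg).2 Iff.rfl⟩
    constructor
    · intro e
      have e2 : g ^ 15 = (g * g) ^ 7 * g := by rw [← pow_two, ← pow_mul, ← pow_succ]
      rw [e2] at e
      exact hgS ((S.mul_mem_cancel_left (S.pow_mem h1 7)).1 e)
    · have h3 := Subgroup.orderOf_dvd_natCard _ h2
      rw [cardL hx hy hyx, orderOf_dvd_iff_pow_eq_one] at h3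
      rw [← h3, ← pow_two, ← pow_two, ← pow_mul, ← pow_mul]
  have ord2 : ∀ w : K, w ∉ S → w * w = 1 → orderOf w = 2 := fun w h1 h2 =>
    ord_prime Nat.prime_two (by rw [pow_two, h2]) (by rw [pow_one]; rintro rfl; exact h1 S.one_mem)
  let Xc : Set K := {w | w ∈ H ∧ w ∉ S ∧ w * w = 1 ∧ w * y * w⁻¹ = y}
  let Xi : Set K := {w | w ∈ H ∧ w ∉ S ∧ w * w = 1 ∧ w * y * w⁻¹ = y⁻¹}
  have hXc : ∀ w ∈ Xc, w ∉ C := fun w hw e =>
    no30 h (ord2 w hw.2.1 hw.2.2.1) hy hx hyx (mul_inv_eq_iff_eq_mul.1 hw.2.2.2) ((memC w).1 e)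
  have hXi : ∀ w ∈ Xi, w ∈ C := by
    intro w hw
    by_contra e
    have h1 : w * j ∈ C := (mul_mem_of_two hC2 hw.1 hjH).2 (iff_of_false e hjC)
    have h2 : w * j ∉ S := fun e' => hw.2.1 ((S.mul_mem_cancel_right hjS).1 e')
    have h3 : w * j ∈ Ky := by
      rw [memK, ← mul_inv_eq_iff_eq_mul]
      calc w * j * y * (w * j)⁻¹ = w * (j * y * j⁻¹) * w⁻¹ := by group
        _ = (w * y * w⁻¹)⁻¹ := by rw [hjinv]; group
        _ = y := by rw [hw.2.2.2, inv_inv]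
    obtain ⟨h4, h5⟩ := odd15 _ (hCH h1) h2
    exact no30 h (ord2 _ h4 h5) hy hx hyx ((memK _).1 (Ky.pow_mem h3 15)) ((memC _).1 (C.pow_mem h1 15))
  have cxy : ∀ a b : ℕ, x ^ a * y ^ b = y ^ b * x ^ a := fun a b =>
    ((show Commute x y from hyx.symm).pow_pow a b).eq
  have sc : ∀ w0 ∈ Xc, ∀ w ∈ Xc, ∃ a < 5, w = w0 * x ^ a := by
    intro w0 h0 w hw
    obtain ⟨a, ha⟩ := hLm (w0 * w) ((mul_mem_of_two hi2 (hHA h0.1) (hHA hw.1)).2 (iff_of_false h0.2.1 hw.2.1))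
      ((mul_mem_of_two hC2 h0.1 hw.1).2 (iff_of_false (hXc _ h0) (hXc _ hw)))
    have hi0 := inverts Nat.prime_five hx h0.1 h0.2.2.1 (fun e => hXc _ h0 ((memC _).2 e))
    have e1 : w = w0 * (x ^ a * y ^ a) := by rw [← ha, ← mul_assoc, h0.2.2.1, one_mul]
    have e2 : w0 * x ^ a * w0⁻¹ = (x ^ a)⁻¹ := by rw [← conj_pow, hi0, inv_pow]
    have e3 : w0 * y ^ a * w0⁻¹ = y ^ a := by rw [← conj_pow, h0.2.2.2]
    have e4 : y ^ a * y ^ a = 1 := by
      have h1 := hw.2.2.1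
      rw [e1] at h1
      calc y ^ a * y ^ a = (x ^ a)⁻¹ * (x ^ a * y ^ a) * y ^ a := by group
        _ = (x ^ a)⁻¹ * (y ^ a * x ^ a) * y ^ a := by rw [cxy]
        _ = (w0 * x ^ a * w0⁻¹) * (w0 * y ^ a * w0⁻¹) * (w0 * w0) * (x ^ a * y ^ a) := by
          rw [e2, e3, h0.2.2.1]; group
        _ = 1 := by rw [← h1]; group
    rw [pow_of_two (by decide) y3 e4, mul_one] at e1
    exact ⟨a % 5, Nat.mod_lt _ (by norm_num), by rw [e1, ← hx, pow_mod_orderOf]⟩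
  have si : ∀ w0 ∈ Xi, ∀ w ∈ Xi, ∃ a : ℕ, w = w0 * y ^ a := by
    intro w0 h0 w hw
    obtain ⟨a, ha⟩ := hLm (w0 * w) ((mul_mem_of_two hi2 (hHA h0.1) (hHA hw.1)).2 (iff_of_false h0.2.1 hw.2.1))
      (C.mul_mem (hXi _ h0) (hXi _ hw))
    have hi0 : w0 * x * w0⁻¹ = x := mul_inv_eq_iff_eq_mul.2 ((memC _).1 (hXi _ h0))
    have e1 : w = w0 * (x ^ a * y ^ a) := by rw [← ha, ← mul_assoc, h0.2.2.1, one_mul]
    have e2 : w0 * x ^ a * w0⁻¹ = x ^ a := by rw [← conj_pow, hi0]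
    have e3 : w0 * y ^ a * w0⁻¹ = (y ^ a)⁻¹ := by rw [← conj_pow, h0.2.2.2, inv_pow]
    have e4 : x ^ a * x ^ a = 1 := by
      have h1 := hw.2.2.1
      rw [e1] at h1
      calc x ^ a * x ^ a = x ^ a * (y ^ a)⁻¹ * (y ^ a * x ^ a) := by group
        _ = (w0 * x ^ a * w0⁻¹) * (w0 * y ^ a * w0⁻¹) * (w0 * w0) * (x ^ a * y ^ a) := by
          rw [e2, e3, h0.2.2.1, cxy]; group
        _ = 1 := by rw [← h1]; group
    rw [pow_of_two (by decide) x5 e4, one_mul] at e1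
    exact ⟨a, e1⟩
  have cover : ∀ t ∈ Ky, (∃ w ∈ Xc, t⁻¹ * w * t ∈ Xc) ∨ ∃ w ∈ Xi, t⁻¹ * w * t ∈ Xi := by
    intro t ht
    have hty : t⁻¹ * y * t = y := by rw [mul_assoc, ← (memK t).1 ht]; group
    have hty' : t * y * t⁻¹ = y := by rw [(memK t).1 ht]; group
    obtain ⟨x0, h1, h2, h3, h4, -⟩ := hp.exists_pElem Nat.prime_two hB2 t
    let D0 : Subgroup K := S ⊓ S.comap (MulAut.conj t⁻¹).toMonoidHom
    have mD : ∀ s, s ∈ D0 ↔ s ∈ S ∧ t⁻¹ * s * t ∈ S := fun s => by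
      rw [mem_inf, mem_cc, inv_inv]
    have h5 : x0 * y * x0⁻¹ ∈ D0 := by
      refine (mD _).2 ⟨hn _ h1 _ hyS, ?_⟩
      have := hn _ h2 _ hyS
      rw [← hty] at this
      simpa [mul_assoc] using this
    obtain ⟨d, hd, hdn⟩ := frattini (S := D0) Nat.prime_three ((mD y).2 ⟨hyS, by rw [hty]; exact hyS⟩) hy
      (fun e => h9 (e.trans (card_dvd_of_le inf_le_left))) h5
    obtain ⟨hd1, hd2⟩ := (mD d).1 hd
    have tN : t ∈ Ny := comm_mem_norm ((memK t).1 ht)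
    have e1 : t⁻¹ * (d⁻¹ * x0) * t = (t⁻¹ * d * t)⁻¹ * (t⁻¹ * x0 * t) := by group
    have n1 : d⁻¹ * x0 ∈ H := cl1 _ (A.mul_mem (A.inv_mem (hSA hd1)) h1) hdn
    have n2 : d⁻¹ * x0 ∉ S := fun e => h3 (hSB ((S.mul_mem_cancel_left (S.inv_mem hd1)).1 e))
    have n3 : t⁻¹ * (d⁻¹ * x0) * t ∈ H := cl1 _ (by rw [e1]; exact A.mul_mem (A.inv_mem (hSA hd2)) h2)
      (Ny.mul_mem (Ny.mul_mem (Ny.inv_mem tN) hdn) tN)
    have n4 : t⁻¹ * (d⁻¹ * x0) * t ∉ S := fun e => by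
      rw [e1] at e
      exact h4 (hSB ((S.mul_mem_cancel_left (S.inv_mem hd2)).1 e))
    obtain ⟨o1, o2⟩ := odd15 _ n1 n2
    obtain ⟨o3, o4⟩ := odd15 _ n3 n4
    have o5 := H.pow_mem n3 15
    rw [← conj_pow'] at o3 o4 o5
    set w := (d⁻¹ * x0) ^ 15 with hw
    have e2 : t⁻¹ * w * t * y * (t⁻¹ * w * t)⁻¹ = t⁻¹ * (w * (t * y * t⁻¹) * w⁻¹) * t := by group
    rw [hty'] at e2
    rcases conj_three_cases hy (cl2 (H.pow_mem n1 15)) with e | e
    · exact Or.inl ⟨w, ⟨H.pow_mem n1 15, o1, o2, e⟩, o5, o3, o4, by rw [e2, e, hty]⟩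
    · refine Or.inr ⟨w, ⟨H.pow_mem n1 15, o1, o2, e⟩, o5, o3, o4, ?_⟩
      rw [e2, e]
      conv_rhs => rw [← hty]
      group
  have cntc : {t | t ∈ Ky ∧ ∃ w ∈ Xc, t⁻¹ * w * t ∈ Xc}.ncard ≤ 600 := by
    rcases Xc.eq_empty_or_nonempty with he | ⟨w0, h0⟩
    · simp [he]
    have hsub : {t | t ∈ Ky ∧ ∃ w ∈ Xc, t⁻¹ * w * t ∈ Xc} ⊆ ⋃ p ∈ Finset.range 5 ×ˢ Finset.range 5,
        {t | t ∈ Ky ∧ t⁻¹ * (w0 * x ^ p.1) * t = w0 * x ^ p.2} := by
      rintro t ⟨ht, w, hw, hw'⟩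
      obtain ⟨a, ha, rfl⟩ := sc w0 h0 w hw
      obtain ⟨b, hb, e⟩ := sc w0 h0 _ hw'
      simp only [Set.mem_iUnion]
      exact ⟨(a, b), by simp [ha, hb], ht, e⟩
    refine (Set.ncard_le_ncard hsub (Set.toFinite _)).trans ((ncard_biUnion_le' _ _).trans ?_)
    refine (Finset.sum_le_card_nsmul _ _ 24 fun p _ => (ncard_conj_le Ky _ _).trans ?_).trans (by simp)
    have hi0 := inverts Nat.prime_five hx h0.1 h0.2.2.1 (fun e => hXc _ h0 ((memC _).2 e))
    have e2 : w0 * x ^ p.1 * w0⁻¹ = (x ^ p.1)⁻¹ := by rw [← conj_pow, hi0, inv_pow]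
    refine cent_inf_le' h hy hK (ord2 _ (fun e => h0.2.1 ((S.mul_mem_cancel_right (S.pow_mem hxS _)).1 e)) ?_) ?_
    · calc w0 * x ^ p.1 * (w0 * x ^ p.1) = (w0 * x ^ p.1 * w0⁻¹) * (w0 * w0) * x ^ p.1 := by group
        _ = 1 := by rw [e2, h0.2.2.1]; group
    · exact (memK _).1 (Ky.mul_mem ((memK _).2 (mul_inv_eq_iff_eq_mul.1 h0.2.2.2))
        (Ky.pow_mem ((memK _).2 hyx.symm) _))
  have cnti : {t | t ∈ Ky ∧ ∃ w ∈ Xi, t⁻¹ * w * t ∈ Xi}.ncard ≤ 360 := by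
    rcases Xi.eq_empty_or_nonempty with he | ⟨w0, h0⟩
    · simp [he]
    have hsub : {t | t ∈ Ky ∧ ∃ w ∈ Xi, t⁻¹ * w * t ∈ Xi} ⊆ ⋃ c ∈ Finset.range 3,
        {t | t ∈ Ky ∧ t⁻¹ * w0 * t = w0 * y ^ c} := by
      rintro t ⟨ht, w, hw, hw'⟩
      obtain ⟨a, rfl⟩ := si w0 h0 w hw
      obtain ⟨b, e⟩ := si w0 h0 _ hw'
      simp only [Set.mem_iUnion]
      refine ⟨(b + 2 * a) % 3, by simp [Nat.mod_lt], ht, ?_⟩
      have hty : t⁻¹ * y * t = y := by rw [mul_assoc, ← (memK t).1 ht]; group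
      have e1 : t⁻¹ * y ^ a * t = y ^ a := by rw [conj_pow', hty]
      have e3 : y ^ a * y ^ (2 * a) = 1 := by
        rw [← pow_add, show a + 2 * a = 3 * a by ring, pow_mul, y3, one_pow]
      rw [← hy, pow_mod_orderOf, pow_add, ← mul_assoc, ← e]
      calc t⁻¹ * w0 * t = t⁻¹ * w0 * t * (y ^ a * y ^ (2 * a)) := by rw [e3, mul_one]
        _ = t⁻¹ * w0 * t * ((t⁻¹ * y ^ a * t) * y ^ (2 * a)) := by rw [e1]
        _ = _ := by group
    refine (Set.ncard_le_ncard hsub (Set.toFinite _)).trans ((ncard_biUnion_le' _ _).trans ?_)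
    refine (Finset.sum_le_card_nsmul _ _ 120 fun p _ => (ncard_conj_le Ky _ _).trans ?_).trans (by simp)
    exact Nat.le_of_dvd (by norm_num) (cent_inf_le h hK (ord2 _ h0.2.1 h0.2.2.1))
  have hsub : (Ky : Set K) ⊆ {t | t ∈ Ky ∧ ∃ w ∈ Xc, t⁻¹ * w * t ∈ Xc} ∪
      {t | t ∈ Ky ∧ ∃ w ∈ Xi, t⁻¹ * w * t ∈ Xi} := fun t ht =>
    (cover t ht).imp (fun e => ⟨ht, e⟩) fun e => ⟨ht, e⟩
  have h1 := (Set.ncard_le_ncard hsub (Set.toFinite _)).trans (Set.ncard_union_le _ _)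
  rw [← Nat.card_coe_set_eq, SetLike.coe_sort_coe, hK] at h1
  omega

end Cfsg.Agent.SP.NJ3
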