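import Cfsg.Agent.SP.NJ3.L16
import Cfsg.Agent.SP.Iface
import Cfsg.Agent.H296.JT.Count
import Cfsg.Agent.H392.HT.SFacts
import Cfsg.Agent.H4.Bar
import Cfsg.Agent.OrdDiv.Table

/-! # S5755, the row `J₃` (helper93)

`negJ3 : CFSG → NegJ3`. -/

set_option autoImplicit false

namespace Cfsg.Agent.SP.NJ3

open Subgroup Cfsg Cfsg.Spor
open Cfsg.Agent.H296.JT (fin_j3 card_j3 cn5)
open Cfsg.Agent.H59.EP (ElAb exists_min_char char_simple char_trans)

variable {K : Type} [Group K]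

theorem soc_top [Finite K] {A B S : Subgroup K} (hp : IsPair A B) (hSB : S ≤ B)
    (hn : ∀ a ∈ A, ∀ s ∈ S, a * s * a⁻¹ ∈ S) {p : ℕ} (hpp : p.Prime) {x : K} (hxS : x ∈ S) (hx : orderOf x = p)
    (h2 : ¬ p ^ 2 ∣ Nat.card S)
    (he : Nat.card (S ⊓ normalizer ((zpowers x : Subgroup K) : Set K) : Subgroup K) =
      Nat.card (normalizer ((zpowers x : Subgroup K) : Set K))) : False := by
  have hi := idx_data (hSB.trans hp.le) hn hpp hxS hx h2
  have h1 := card_dvd_of_le (inf_le_right : A ⊓ normalizer ((zpowers x : Subgroup K) : Set K) ≤ _)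
  rw [hi, he] at h1
  have h3 : S.relIndex A ∣ 1 := Nat.dvd_of_mul_dvd_mul_right Nat.card_pos (by rwa [one_mul])
  exact hp.relIndex_ne_one (Nat.dvd_one.1 ((relIndex_dvd_of_le_left A hSB).trans h3))

theorem soc_big [Finite K] {A B S : Subgroup K} (hp : IsPair A B) (hSB : S ≤ B)
    (hn : ∀ a ∈ A, ∀ s ∈ S, a * s * a⁻¹ ∈ S) {p c M : ℕ} (hpp : p.Prime) (hc : Nat.card S = c) (hd : p ∣ c)
    (h2 : ¬ p ^ 2 ∣ c)
    (hM : ∀ x : K, orderOf x = p → Nat.card (normalizer ((zpowers x : Subgroup K) : Set K)) = M) (hM0 : M ≠ 0)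
    (har : ∀ m ∈ Nat.divisors M, c / m % p = 1 → m = M) : False := by
  obtain ⟨x, hxS, hx⟩ := exists_ord (S := S) hpp (by rw [hc]; exact hd)
  rw [← hc] at h2
  obtain ⟨n, hn1, hn2⟩ := sylow_count hpp hxS hx h2
  refine soc_top hp hSB hn hpp hxS hx h2 ?_
  rw [hM x hx]
  refine har _ (Nat.mem_divisors.2 ⟨by rw [← hM x hx]; exact card_dvd_of_le inf_le_right, hM0⟩) ?_
  rw [← hc, hn2, Nat.mul_div_cancel_left _ Nat.card_pos, hn1]

theorem aut_case (h : IsoJ3 K) (L3 : ∀ N : Subgroup K, ElAb 3 N → N ≠ ⊥ → B2 (normalizer (N : Set K)))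
    {A B S : Subgroup K} (hp : IsPair A B) (hSA : S ≤ A) (hn : ∀ a ∈ A, ∀ s ∈ S, a * s * a⁻¹ ∈ S)
    {x : K} (hxS : x ∈ S) (hx : orderOf x = 5) {k : ℕ} (hk : 3 ^ k ∣ Nat.card A)
    (hk' : ¬ 3 ^ k ∣ Nat.card (MulAut S)) : False := by
  have := fin_j3 h
  have hN : (S.subgroupOf A).Normal := (normal_subgroupOf_iff' hSA).2 hn
  let φ : A →* MulAut (S.subgroupOf A) := MulAut.conjNormal
  have h1 := φ.ker.card_mul_index
  rw [index_ker] at h1
  have h2 : Nat.card φ.range ∣ Nat.card (MulAut S) := by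
    rw [← Nat.card_congr (MulAut.congr (subgroupOfEquivOfLe hSA)).toEquiv]
    exact card_subgroup_dvd_card _
  have h3 : 3 ∣ Nat.card φ.ker := by
    by_contra hc
    rw [← h1] at hk
    exact hk' ((Nat.Coprime.dvd_of_dvd_mul_left
      (((Nat.Prime.coprime_iff_not_dvd Nat.prime_three).2 hc).pow_left k) hk).trans h2)
  have f3 : Fact (Nat.Prime 3) := ⟨Nat.prime_three⟩
  obtain ⟨y, hy⟩ := exists_prime_orderOf_dvd_card' 3 h3
  have hy3 : orderOf ((y : A) : K) = 3 := by rw [Subgroup.orderOf_coe, Subgroup.orderOf_coe, hy]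
  have hyc : ∀ s ∈ S, ((y : A) : K) * s = s * ((y : A) : K) := by
    intro s hs
    have h4 : φ y = 1 := y.2
    have h5 := congrArg (fun f : MulAut (S.subgroupOf A) => (((f ⟨⟨s, hSA hs⟩, hs⟩ : S.subgroupOf A) : A) : K)) h4
    exact mul_inv_eq_iff_eq_mul.1 h5
  refine not_B2 hp (fun a ha => ?_) (L3 (zpowers ((y : A) : K)) ⟨?_, ?_⟩ ?_)
  · refine mem_norm_zpowers (c30 h hx hy3 (hyc x hxS) (by rw [conj_pow, ← hy3, pow_orderOf_eq_one]; group) ?_)
    have h4 := hyc _ (hn _ (A.inv_mem ha) x hxS)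
    calc a * (y : A) * a⁻¹ * x = a * ((y : A) * (a⁻¹ * x * a⁻¹⁻¹)) * a⁻¹ := by group
      _ = _ := by rw [h4]; group
  · rintro _ ⟨i, rfl⟩ _ ⟨j, rfl⟩
    exact (Commute.zpow_zpow_self _ i j).eq
  · rintro _ ⟨i, rfl⟩
    show (((y : A) : K) ^ i) ^ 3 = 1
    rw [← zpow_natCast, ← zpow_mul, mul_comm, zpow_mul, zpow_natCast, ← hy3, pow_orderOf_eq_one, one_zpow]
  · intro e
    rw [zpowers_eq_bot] at e
    rw [e, orderOf_one] at hy3
    norm_num at hy3

set_option synthInstance.maxHeartbeats 200000 in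
set_option synthInstance.maxSize 1000 in
theorem perm6 : ∀ σ : Equiv.Perm (Fin 6), Equiv.Perm.sign σ = 1 → σ ^ 3 = 1 ∨ σ ^ 4 = 1 ∨ σ ^ 5 = 1 := by
  decide +kernel

theorem ar360 : ∀ d ∈ Nat.divisors 360, (¬ 2 ∣ d ∧ ¬ 5 ∣ d) ∨ (¬ 2 ∣ d ∧ ¬ 3 ∣ d) ∨ (¬ 3 ∣ d ∧ ¬ 5 ∣ d) → d ≤ 9 := by
  decide +kernel

theorem cent360 [Finite K] {S : Subgroup K} (hs : IsSimpleGroup S) (hc : Nat.card S = 360) {x : K} (hxS : x ∈ S)
    (hx1 : x ≠ 1) : Nat.card (S ⊓ centralizer ({x} : Set K) : Subgroup K) ≤ 9 := by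
  obtain ⟨e⟩ := Cfsg.Agent.S0497.result hc
  have hS : ∀ g ∈ S, g ^ 3 = 1 ∨ g ^ 4 = 1 ∨ g ^ 5 = 1 := by
    intro g hg
    have key : ∀ n : ℕ, ((e ⟨g, hg⟩ : alternatingGroup (Fin 6)) : Equiv.Perm (Fin 6)) ^ n = 1 → g ^ n = 1 := by
      intro n hn
      have h1 : e (⟨g, hg⟩ ^ n) = 1 := by rw [map_pow]; exact Subtype.ext hn
      exact congrArg Subtype.val ((map_eq_one_iff e e.injective).1 h1)
    exact (perm6 _ (Equiv.Perm.mem_alternatingGroup.1 (e ⟨g, hg⟩).2)).imp (key 3) (Or.imp (key 4) (key 5))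
  have key : ∀ (j p q : ℕ), orderOf (x ^ j) = p → q.Prime → Nat.Coprime p q →
      ¬ p * q ∣ 3 → ¬ p * q ∣ 4 → ¬ p * q ∣ 5 → ¬ q ∣ Nat.card (S ⊓ centralizer ({x} : Set K) : Subgroup K) := by
    intro j p q hj hq hpq h3 h4 h5 hd
    obtain ⟨y, hy, hyq⟩ := exists_ord hq hd
    have hcm : Commute (x ^ j) y := (show Commute x y from (mem_centralizer_singleton_iff.1 hy.2).symm).pow_left j
    have ho := hcm.orderOf_mul_eq_mul_orderOf_of_coprime (by rw [hj, hyq]; exact hpq)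
    rw [hj, hyq] at ho
    rcases hS _ (S.mul_mem (S.pow_mem hxS j) hy.1) with e | e | e <;> have := orderOf_dvd_of_pow_eq_one e <;>
      rw [ho] at this <;> contradiction
  refine ar360 _ (Nat.mem_divisors.2 ⟨by rw [← hc]; exact card_dvd_of_le inf_le_left, by norm_num⟩) ?_
  rcases hS x hxS with e | e | e
  · have h1 : orderOf (x ^ 1) = 3 := by rw [pow_one]; exact ord_prime Nat.prime_three e (by simpa using hx1)
    exact Or.inl ⟨key 1 3 2 h1 (by norm_num) (by norm_num) (by norm_num) (by norm_num) (by norm_num),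
      key 1 3 5 h1 (by norm_num) (by norm_num) (by norm_num) (by norm_num) (by norm_num)⟩
  · obtain ⟨j, h1⟩ : ∃ j, orderOf (x ^ j) = 2 := by
      by_cases h2 : x ^ 2 = 1
      · exact ⟨1, by rw [pow_one]; exact ord_prime Nat.prime_two h2 (by simpa using hx1)⟩
      · exact ⟨2, ord_prime Nat.prime_two (by rw [← pow_mul]; exact e) (by simpa using h2)⟩
    exact Or.inr (Or.inr ⟨key j 2 3 h1 (by norm_num) (by norm_num) (by norm_num) (by norm_num) (by norm_num),
      key j 2 5 h1 (by norm_num) (by norm_num) (by norm_num) (by norm_num) (by norm_num)⟩)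
  · have h1 : orderOf (x ^ 1) = 5 := by rw [pow_one]; exact ord_prime Nat.prime_five e (by simpa using hx1)
    exact Or.inr (Or.inl ⟨key 1 5 2 h1 (by norm_num) (by norm_num) (by norm_num) (by norm_num) (by norm_num),
      key 1 5 3 h1 (by norm_num) (by norm_num) (by norm_num) (by norm_num) (by norm_num)⟩)

theorem ar60 : ∀ m ∈ Nat.divisors 60, (60 / m % 5 = 1 ∨ 360 / m % 5 = 1) → m = 10 ∨ m = 60 := by decide

theorem sq_le {n : ℕ} (h : n * n - n ≤ 9 * 360) : n ≤ 60 := by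
  by_contra hc
  have : 61 * n ≤ n * n := Nat.mul_le_mul_right _ (by omega)
  omega

theorem caseAlt (h : IsoJ3 K) (L3 : ∀ N : Subgroup K, ElAb 3 N → N ≠ ⊥ → B2 (normalizer (N : Set K)))
    {A B S : Subgroup K} (hp : IsPair A B) (hSB : S ≤ B)
    (hn : ∀ a ∈ A, ∀ s ∈ S, a * s * a⁻¹ ∈ S) (hs : IsSimpleGroup S)
    (hc : Nat.card S = 60 ∨ Nat.card S = 360) : False := by
  have := fin_j3 h
  have hSA : S ≤ A := hSB.trans hp.le
  obtain ⟨x, hxS, hx⟩ := exists_ord (S := S) Nat.prime_five (by rcases hc with hc | hc <;> rw [hc] <;> norm_num)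
  have h25 : ¬ 5 ^ 2 ∣ Nat.card S := by rcases hc with hc | hc <;> rw [hc] <;> norm_num
  obtain ⟨-, cH⟩ := cn5 h hx
  obtain ⟨n, hn1, hn2⟩ := sylow_count Nat.prime_five hxS hx h25
  have hi := idx_data hSA hn Nat.prime_five hxS hx h25
  have hm : Nat.card (S ⊓ normalizer ((zpowers x : Subgroup K) : Set K) : Subgroup K) = 10 := by
    refine (ar60 _ (Nat.mem_divisors.2 ⟨by rw [← cH]; exact card_dvd_of_le inf_le_right, by norm_num⟩) ?_).resolve_right
      fun e => soc_top hp hSB hn Nat.prime_five hxS hx h25 (by rw [e, cH])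
    refine hc.imp (fun hc => ?_) (fun hc => ?_) <;>
      rw [← hc, hn2, Nat.mul_div_cancel_left _ Nat.card_pos, hn1]
  have hAd := card_dvd_of_le (inf_le_right : A ⊓ normalizer ((zpowers x : Subgroup K) : Set K) ≤ _)
  rw [hi, hm, cH] at hAd
  have h6 : S.relIndex A ∣ 6 := Nat.dvd_of_mul_dvd_mul_right (by norm_num) (hAd : _ ∣ 6 * 10)
  have hA := relIndex_mul_card hSA
  by_cases h3 : 3 ∣ S.relIndex A
  · rcases hc with hc | hc
    · obtain ⟨e⟩ := Cfsg.Agent.S0494.result hc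
      refine aut_case h L3 hp hSA hn hxS hx (k := 2) ?_ ?_
      · rw [← hA, hc, pow_two]; exact Nat.mul_dvd_mul h3 (by norm_num)
      · rw [Nat.card_congr (MulAut.congr e).toEquiv]; exact H4.Bar.not_nine
    · obtain ⟨e⟩ := Cfsg.Agent.S0497.result hc
      refine aut_case h L3 hp hSA hn hxS hx (k := 3) ?_ ?_
      · rw [← hA, hc, pow_succ']; exact Nat.mul_dvd_mul h3 (by norm_num)
      · rw [Nat.card_congr (MulAut.congr e).toEquiv]
        exact fun e => by have := e.trans H392.HT.card_mulAut_A6_dvd; norm_num at this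
  have hBA := hp.relIndex_ne_one
  have hBd : B.relIndex A ∣ S.relIndex A := relIndex_dvd_of_le_left A hSB
  have hi2 : S.relIndex A = 2 := by
    have h1 : S.relIndex A ∣ 2 := Nat.Coprime.dvd_of_dvd_mul_left
      ((Nat.Prime.coprime_iff_not_dvd Nat.prime_three).2 h3).symm (h6 : _ ∣ 3 * 2)
    rcases (Nat.dvd_prime Nat.prime_two).1 h1 with e | e
    · rw [e] at hBd; exact absurd (Nat.dvd_one.1 hBd) hBA
    · exact e
  rcases hc with hc | hc
  · have := card_ge h hp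
    rw [hi2, hc] at hA
    omega
  have hB2 : 2 ∣ B.relIndex A := by
    rw [hi2] at hBd
    rcases (Nat.dvd_prime Nat.prime_two).1 hBd with e | e
    · exact absurd e hBA
    · rw [e]
  have h1 := inv_ge h hp hB2
  have c0 := ncard_inv_le (S := S) (I := {s | s ∈ S ∧ s * s = 1}) (fun s hs => hs.2)
    (fun s hs s' hs' => S.mul_mem hs.1 hs'.1) (fun x hx hx1 => cent360 hs hc hx hx1)
  have c1 := ncard_inv_le (S := S) (I := {s | s ∈ A ∧ s ∉ S ∧ s * s = 1}) (fun s hs => hs.2.2)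
    (fun s hs s' hs' => (mul_mem_of_two hi2 hs.1 hs'.1).2 (iff_of_false hs.2.1 hs'.2.1))
    (fun x hx hx1 => cent360 hs hc hx hx1)
  rw [hc] at c0 c1
  have hsub : {x | x ∈ A ∧ orderOf x = 2} ⊆ {s | s ∈ S ∧ s * s = 1} ∪ {s | s ∈ A ∧ s ∉ S ∧ s * s = 1} := by
    rintro s ⟨h2, h3⟩
    have h4 : s * s = 1 := by rw [← pow_two, ← h3, pow_orderOf_eq_one]
    by_cases h5 : s ∈ S
    · exact Or.inl ⟨h5, h4⟩
    · exact Or.inr ⟨h2, h5, h4⟩
  have h2 := (Set.ncard_le_ncard hsub (Set.toFinite _)).trans (Set.ncard_union_le _ _)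
  have := sq_le c0
  have := sq_le c1
  omega

theorem exists_min [Finite K] (h5 : ∀ p, p.Prime → 5 ≤ p → ¬ p ^ 2 ∣ Nat.card K) {A B : Subgroup K}
    (hp : IsPair A B) (hB : B ≠ ⊥) : ∃ N : Subgroup K, N ≤ B ∧ (∀ a ∈ A, ∀ s ∈ N, a * s * a⁻¹ ∈ N) ∧ N ≠ ⊥ ∧
      ((∃ s : ℕ, s.Prime ∧ ElAb s N) ∨ (IsSimpleGroup N ∧ ¬ ∀ a b : N, a * b = b * a)) := by
  have hBn := hp.2.2.1
  have hMne : B.subgroupOf A ≠ ⊥ := fun e => hB (by
    rw [← map_subgroupOf_eq_of_le hp.le, e, Subgroup.map_bot])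
  have hMn : Nontrivial (B.subgroupOf A) := (Subgroup.nontrivial_iff_ne_bot _).2 hMne
  obtain ⟨Y, hY, hYne, hYmin⟩ := exists_min_char (B := B.subgroupOf A)
  have hYn : Nontrivial Y := (Subgroup.nontrivial_iff_ne_bot Y).2 hYne
  have hYc : ∀ Z : Subgroup Y, Z.Characteristic → Z = ⊥ ∨ Z = ⊤ := by
    intro Z hZ
    by_cases hZb : Z = ⊥
    · exact Or.inl hZb
    right
    have h1 := hYmin (Z.map Y.subtype) char_trans (map_subtype_le _) (by
      intro e
      rw [Subgroup.map_eq_bot_iff_of_injective _ Y.subtype_injective] at e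
      exact hZb e)
    rw [Subgroup.eq_top_iff']
    intro y
    have h2 : (y : B.subgroupOf A) ∈ Z.map Y.subtype := by rw [h1]; exact y.2
    obtain ⟨z, hz, e⟩ := h2
    have : z = y := Subtype.ext e
    rw [← this]
    exact hz
  let f : B.subgroupOf A →* K := A.subtype.comp (B.subgroupOf A).subtype
  have hf : Function.Injective f := A.subtype_injective.comp (B.subgroupOf A).subtype_injective
  have e : Y ≃* Y.map f := Y.equivMapOfInjective f hf
  have hnorm : (Y.map (B.subgroupOf A).subtype).Normal := inferInstance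
  refine ⟨Y.map f, ?_, ?_, ?_, ?_⟩
  · rintro _ ⟨y, -, rfl⟩
    exact y.2
  · rintro a ha _ ⟨y, hy, rfl⟩
    obtain ⟨z, hz, e⟩ := hnorm.conj_mem _ ⟨y, hy, rfl⟩ ⟨a, ha⟩
    exact ⟨z, hz, congrArg Subtype.val e⟩
  · intro e
    rw [Subgroup.map_eq_bot_iff_of_injective _ hf] at e
    exact hYne e
  have hd : Nat.card Y ∣ Nat.card K := by
    rw [Nat.card_congr e.toEquiv]; exact card_subgroup_dvd_card _
  rcases char_simple hYc (fun p hp hp5 h => h5 p hp hp5 (h.trans hd)) with ⟨s, hs, -, hel⟩ | ⟨h1, h2⟩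
  · refine Or.inl ⟨s, hs, ?_, ?_⟩
    · rintro _ ⟨a, ha, rfl⟩ _ ⟨b, hb, rfl⟩
      rw [← map_mul, ← map_mul]
      exact congrArg f (Subtype.ext_iff.1 (hel.comm ⟨a, ha⟩ (mem_top _) ⟨b, hb⟩ (mem_top _)))
    · rintro _ ⟨a, ha, rfl⟩
      rw [← map_pow, ← map_one f]
      exact congrArg f (Subtype.ext_iff.1 (hel.exp ⟨a, ha⟩ (mem_top _)))
  · refine Or.inr ⟨e.symm.isSimpleGroup, fun hc => h2 (Group.isSolvable_of_comm fun a b => e.injective ?_)⟩
    rw [map_mul, map_mul, hc]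

theorem not_pair (hB : H940.Eng.Base) (h : IsoJ3 K)
    (L2 : ∀ N : Subgroup K, ElAb 2 N → N ≠ ⊥ → B2 (normalizer (N : Set K)))
    (L3 : ∀ N : Subgroup K, ElAb 3 N → N ≠ ⊥ → B2 (normalizer (N : Set K))) : ¬ Pair K := by
  rintro ⟨A, B, hp⟩
  have := fin_j3 h
  have hsim := (H898.J3Cent.base h).1
  have hB0 : B ≠ ⊥ := by
    rintro rfl
    have hn : A.Normal := ⟨fun a ha t => by
      obtain ⟨b, hb, d, -, hdt, e⟩ := hp.exists_mul t⁻¹ ha
      rw [mem_bot.1 hb, one_mul] at e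
      rw [e]; simpa using hdt⟩
    exact hn.eq_bot_or_eq_top.elim hp.ne_bot hp.1
  have h5 : ∀ p, p.Prime → 5 ≤ p → ¬ p ^ 2 ∣ Nat.card K := by
    intro p hpp h5 hd
    rw [card_j3 h] at hd
    rcases H898.J3Cent.prime_dvd_card hpp ((dvd_pow_self p two_ne_zero).trans hd) with rfl | rfl | rfl | rfl | rfl <;>
      revert h5 hd <;> norm_num
  obtain ⟨N, hNB, hn, hne, hN⟩ := exists_min h5 hp hB0
  have hAN : A ≤ normalizer (N : Set K) := fun a ha => mem_normalizer_fintype (hn a ha)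
  have hd : Nat.card N ∣ 50232960 := by rw [← card_j3 h]; exact card_subgroup_dvd_card N
  rcases hN with ⟨s, hs, hel⟩ | ⟨hs, hna⟩
  · obtain ⟨⟨x, hx⟩, hx1⟩ := (Subgroup.ne_bot_iff_exists_ne_one).1 hne
    have ho : orderOf x = s := ord_prime hs (hel.exp x hx) (by rw [pow_one]; exact fun e => hx1 (Subtype.ext e))
    have key : 5 ≤ s → Nat.card A ∣ Nat.card (normalizer ((zpowers x : Subgroup K) : Set K)) := by
      intro h5s
      refine card_dvd_of_le fun a ha => ?_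
      obtain ⟨n, hn1, hn2⟩ := frattini hs hx ho (fun e => h5 s hs h5s (e.trans (card_subgroup_dvd_card N)))
        (hn a ha x hx)
      simpa using mul_mem (comm_mem_norm (hel.comm _ hn1 _ hx)) hn2
    have h162 := card_ge h hp
    have hsd : s ∣ 50232960 := by rw [← ho, ← card_j3 h]; exact orderOf_dvd_natCard x
    rcases H898.J3Cent.prime_dvd_card hs hsd with rfl | rfl | rfl | rfl | rfl
    · exact not_B2 hp hAN (L2 N hel hne)
    · exact not_B2 hp hAN (L3 N hel hne)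
    · have h1 := key le_rfl
      rw [(cn5 h ho).2] at h1
      have := Nat.le_of_dvd (by norm_num) h1
      omega
    · have h1 := key (by norm_num)
      rw [(H898.J3Cent.seventeen h ho).2] at h1
      have := Nat.le_of_dvd (by norm_num) h1
      omega
    · have h1 := key (by norm_num)
      rw [H898.J3Cent.card_normalizer_nineteen h ho] at h1
      obtain ⟨r, hr, hrd⟩ := hp.exists_prime
      have h2 : r ≠ 2 := by
        rintro rfl
        have := (hrd.trans (Dvd.intro _ (relIndex_mul_card hp.le))).trans h1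
        norm_num at this
      have := odd_ge h hp hr h2 hrd
      have := Nat.le_of_dvd (by norm_num) h1
      omega
  · have h1 := H940.Eng.D.ords_j3 hB N hs hna hd
    simp only [H940.Eng.D.o_j3, List.mem_cons, List.not_mem_nil, or_false] at h1
    rcases h1 with h1 | h1 | h1 | h1 | h1 | h1 | h1
    · exact caseAlt h L3 hp hNB hn hs (Or.inl h1)
    · exact caseAlt h L3 hp hNB hn hs (Or.inr h1)
    · exact soc_big hp hNB hn (p := 17) (by norm_num) h1 (by norm_num) (by norm_num)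
        (fun x hx => (H898.J3Cent.seventeen h hx).2) (by norm_num) (by decide +kernel)
    · exact soc_big hp hNB hn (p := 19) (by norm_num) h1 (by norm_num) (by norm_num)
        (fun x hx => H898.J3Cent.card_normalizer_nineteen h hx) (by norm_num) (by decide +kernel)
    · exact case4080 h hp hNB hn hs hna h1
    · exact H296.JT.S25920 h hs h1
    · have h2 : N = ⊤ := eq_top_of_card_eq N (by rw [h1, card_j3 h])
      exact hp.1 (top_le_iff.1 (h2 ▸ hNB.trans hp.le))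

end Cfsg.Agent.SP.NJ3

namespace Cfsg.Agent.SP

/-- **The row `J₃`.** -/
theorem negJ3 (hC : CFSG.{0}) : NegJ3 := by
  intro F _ _ ω hF hω
  have H := J3.Core.good_of_card hF hω
  exact NJ3.not_pair ⟨OrdDiv.table, fun S _ _ hS => hC S⟩ (NJ3.iso hF H) (fun _ => NJ3.two_local H hF)
    (fun _ => NJ3.three_local hF H)

end Cfsg.Agent.SP
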